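import Mathlib
import Cfsg.Agent.Lib.Helper5.Tw3D4U

set_option autoImplicit false

/-!
Involutions of `³D₄(q)`, `q` even (statement S2183): definitions.

Positive roots of `D₄` (indices of `chevD4`): `α₁ = 18`, `α₂ = 14` (central node), `α₃ = 13`,
`α₄ = 12`, `α₁+α₂ = 19`, `α₃+α₂ = 16`, `α₄+α₂ = 15`, `α₁+α₂+α₃ = 21`, `α₂+α₃+α₄ = 17`,
`α₁+α₂+α₄ = 20`, `α₁+α₂+α₃+α₄ = 22`, highest root `23`.  Triality `α₁ → α₃ → α₄ → α₁`.

Twisted root elements (`A` = orbit of `α₁`, `B = α₂`):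
`xa = x_A`, `xb = x_B`, `xc = x_{A+B}`, `xd = x_{2A+B}`, `xe = x_{3A+B}`, `xf = x_{3A+2B}`.
-/

namespace Cfsg.Agent.Lib.Helper1.D4Inv

open Cfsg Cfsg.Lie Cfsg.Agent.Lib.Helper5.ChevStruct Cfsg.Agent.Lib.Helper5.ChevSym
  Cfsg.Agent.Lib.Helper5.Tw3D4

variable {K : Type*} [Field K]

/-- `u` lies in the subfield with `q` elements -/
def IsQ (q : ℕ) (u : K) : Prop := u ^ q = u

/-- the bilinear form `Tr(x^{q²} s)` written out -/
def T1 (q : ℕ) (x s : K) : K := x ^ (q ^ 2) * s + x * s ^ q + x ^ q * s ^ (q ^ 2)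

/-- the bilinear form `Tr(y w^q)` written out -/
def T2 (q : ℕ) (y w : K) : K := y * w ^ q + y ^ q * w ^ (q ^ 2) + y ^ (q ^ 2) * w

/-- the form `Tr(x^{q+q²} s)` written out -/
def T3 (q : ℕ) (x s : K) : K :=
  x ^ q * x ^ (q ^ 2) * s + x * x ^ (q ^ 2) * s ^ q + x * x ^ q * s ^ (q ^ 2)

/-- the alternating form `x s^q + x^q s` -/
def T4 (q : ℕ) (x s : K) : K := x * s ^ q + x ^ q * s

/-- the norm to the subfield -/
def Nm (q : ℕ) (x : K) : K := x * x ^ q * x ^ (q ^ 2)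

noncomputable def xa (q : ℕ) (t : K) : GL chevD4.Idx K :=
  xGL chevD4 hD4 18 t * (xGL chevD4 hD4 13 (t ^ q) * xGL chevD4 hD4 12 (t ^ (q ^ 2)))

noncomputable def xb (u : K) : GL chevD4.Idx K := xGL chevD4 hD4 14 u

noncomputable def xc (q : ℕ) (t : K) : GL chevD4.Idx K :=
  xGL chevD4 hD4 19 t * (xGL chevD4 hD4 16 (t ^ q) * xGL chevD4 hD4 15 (t ^ (q ^ 2)))

noncomputable def xd (q : ℕ) (t : K) : GL chevD4.Idx K :=
  xGL chevD4 hD4 21 t * (xGL chevD4 hD4 17 (t ^ q) * xGL chevD4 hD4 20 (t ^ (q ^ 2)))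

noncomputable def xe (u : K) : GL chevD4.Idx K := xGL chevD4 hD4 22 u

noncomputable def xf (u : K) : GL chevD4.Idx K := xGL chevD4 hD4 23 u

/-- the Weyl element of the orbit `A` -/
noncomputable def nA : GL chevD4.Idx K := wGL chevD4 hD4 [0, 2, 3]

/-- the Weyl element of the node `B` -/
noncomputable def nB : GL chevD4.Idx K := wGL chevD4 hD4 [1]

/-- conjugacy under a subgroup -/
def ConjIn {Γ : Type*} [Group Γ] (G : Subgroup Γ) (x y : Γ) : Prop := ∃ h ∈ G, h * x * h⁻¹ = y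

theorem ConjIn.refl {Γ : Type*} [Group Γ] (G : Subgroup Γ) (x : Γ) : ConjIn G x x :=
  ⟨1, one_mem _, by simp⟩

theorem ConjIn.trans {Γ : Type*} [Group Γ] {G : Subgroup Γ} {x y z : Γ} (h1 : ConjIn G x y)
    (h2 : ConjIn G y z) : ConjIn G x z := by
  obtain ⟨g, hg, rfl⟩ := h1
  obtain ⟨h, hh, rfl⟩ := h2
  exact ⟨h * g, mul_mem hh hg, by group⟩

theorem ConjIn.symm {Γ : Type*} [Group Γ] {G : Subgroup Γ} {x y : Γ} (h1 : ConjIn G x y) :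
    ConjIn G y x := by
  obtain ⟨g, hg, rfl⟩ := h1
  exact ⟨g⁻¹, inv_mem hg, by group⟩

theorem ConjIn.of_eq {Γ : Type*} [Group Γ] {G : Subgroup Γ} {x y : Γ} (h : x = y) :
    ConjIn G x y := h ▸ ConjIn.refl G x

/-- the relations of the twisted root elements used in the classification of the involutions
(`K` of characteristic two with `q³` elements) -/
structure Rel {Γ : Type*} [Group Γ] (G : Subgroup Γ) (q : ℕ) (a b c d e f : K → Γ) (nA nB : Γ) :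
    Prop where
  mem_a : ∀ t, a t ∈ G
  mem_b : ∀ u, IsQ q u → b u ∈ G
  mem_c : ∀ t, c t ∈ G
  mem_d : ∀ t, d t ∈ G
  mem_e : ∀ u, IsQ q u → e u ∈ G
  mem_f : ∀ u, IsQ q u → f u ∈ G
  mem_nA : nA ∈ G
  mem_nB : nB ∈ G
  add_a : ∀ s t, a (s + t) = a s * a t
  add_b : ∀ s t, b (s + t) = b s * b t
  add_c : ∀ s t, c (s + t) = c s * c t
  add_d : ∀ s t, d (s + t) = d s * d t
  add_e : ∀ s t, e (s + t) = e s * e t
  add_f : ∀ s t, f (s + t) = f s * f t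
  comm_ae : ∀ s t, a s * e t = e t * a s
  comm_af : ∀ s t, a s * f t = f t * a s
  comm_bc : ∀ s t, b s * c t = c t * b s
  comm_bd : ∀ s t, b s * d t = d t * b s
  comm_bf : ∀ s t, b s * f t = f t * b s
  comm_ce : ∀ s t, c s * e t = e t * c s
  comm_cf : ∀ s t, c s * f t = f t * c s
  comm_de : ∀ s t, d s * e t = e t * d s
  comm_df : ∀ s t, d s * f t = f t * d s
  comm_ef : ∀ s t, e s * f t = f t * e s
  rel_ad : ∀ x s, a x * d s * a x = d s * e (T1 q x s)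
  rel_cd : ∀ y w, c y * d w * c y = d w * f (T2 q y w)
  rel_be : ∀ x u, b x * e u * b x = e u * f (x * u)
  rel_ac : ∀ x s, ∃ w, IsQ q w ∧ a x * c s * a x = c s * d (T4 q x s) * e (T3 q x s) * f w
  rel_ab : ∀ x u, IsQ q u → ∃ s₄ u₅ u₆, IsQ q u₅ ∧ IsQ q u₆ ∧
    a x * b u * a x = b u * c (x * u) * d s₄ * e u₅ * f u₆
  rel_ba : ∀ x y, IsQ q x → ∃ s₄ u₅ u₆, IsQ q u₅ ∧ IsQ q u₆ ∧
    b x * a y * b x = a y * c (x * y) * d s₄ * e u₅ * f u₆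
  nB_a : ∀ t, nB * a t * nB⁻¹ = c t
  nB_c : ∀ t, nB * c t * nB⁻¹ = a t
  nB_d : ∀ t, nB * d t * nB⁻¹ = d t
  nB_e : ∀ u, nB * e u * nB⁻¹ = f u
  nB_f : ∀ u, nB * f u * nB⁻¹ = e u
  nA_b : ∀ u, nA * b u * nA⁻¹ = e u
  nA_d : ∀ t, nA * d t * nA⁻¹ = c (t ^ q)
  tor_a : ∀ t, t ≠ 0 → ConjIn G (a t) (a 1)
  tor_f : ∀ u, u ≠ 0 → IsQ q u → ConjIn G (f u) (f 1)
  nf_one : ∀ t₁ u₂ t₃ t₄ u₅ u₆, a t₁ * b u₂ * c t₃ * d t₄ * e u₅ * f u₆ = 1 →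
    t₁ = 0 ∧ u₂ = 0 ∧ t₃ = 0 ∧ t₄ = 0 ∧ u₅ = 0 ∧ u₆ = 0

/-- the field facts used in the classification (`K` of characteristic two with `q³` elements) -/
structure FieldOK (K : Type*) [Field K] (q : ℕ) : Prop where
  two : (2 : K) = 0
  frob3 : ∀ x : K, x ^ (q ^ 3) = x
  isQ_add : ∀ u v : K, IsQ q u → IsQ q v → IsQ q (u + v)
  isQ_zero : IsQ q (0 : K)
  isQ_T1 : ∀ x s : K, IsQ q (T1 q x s)
  isQ_T2 : ∀ y w : K, IsQ q (T2 q y w)
  isQ_T3 : ∀ x s : K, IsQ q (T3 q x s)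
  isQ_Nm : ∀ x : K, IsQ q (Nm q x)
  nm_ne : ∀ x : K, x ≠ 0 → Nm q x ≠ 0
  /-- `T1` is onto the subfield in the first variable -/
  surj_T1_left : ∀ s u : K, s ≠ 0 → IsQ q u → ∃ x, T1 q x s = u
  /-- `T1` is onto the subfield in the second variable -/
  surj_T1_right : ∀ x u : K, x ≠ 0 → IsQ q u → ∃ s, T1 q x s = u
  surj_T2_left : ∀ w u : K, w ≠ 0 → IsQ q u → ∃ y, T2 q y w = u
  surj_T2_right : ∀ y u : K, y ≠ 0 → IsQ q u → ∃ w, T2 q y w = u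
  /-- the image of `y ↦ x y^q + x^q y` is the hyperplane `T1 x · = 0` -/
  img_T4 : ∀ x s : K, x ≠ 0 → T1 q x s = 0 → ∃ y, T4 q x y = s
  /-- `T4 x s = 0` means that `s / x` lies in the subfield -/
  t4_zero : ∀ x s : K, x ≠ 0 → T4 q x s = 0 → IsQ q (s / x)
  sqrt : ∀ u : K, IsQ q u → ∃ v, IsQ q v ∧ v ^ 2 = u
  t3_smul : ∀ l s : K, IsQ q l → T3 q (l * s) s = l ^ 2 * Nm q s
  t4_smul : ∀ l s : K, IsQ q l → T4 q (l * s) s = 0

end Cfsg.Agent.Lib.Helper1.D4Inv
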