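import Mathlib
import Cfsg.Agent.Lib.Helper1.D4Inv.Defs

set_option autoImplicit false

/-!
Involutions of `³D₄(q)`, `q` even: formal consequences of the relations `Rel`.
-/

namespace Cfsg.Agent.Lib.Helper1.D4Inv

variable {K : Type*} [Field K] {q : ℕ}

theorem IsQ.one : IsQ q (1 : K) := one_pow q

theorem IsQ.mul {u v : K} (hu : IsQ q u) (hv : IsQ q v) : IsQ q (u * v) := by
  unfold IsQ at *
  rw [mul_pow, hu, hv]

theorem IsQ.div {u v : K} (hu : IsQ q u) (hv : IsQ q v) : IsQ q (u / v) := by
  unfold IsQ at *
  rw [div_pow, hu, hv]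

theorem IsQ.pow {u : K} (hu : IsQ q u) (n : ℕ) : IsQ q (u ^ n) := by
  unfold IsQ at *
  rw [← pow_mul, mul_comm, pow_mul, hu]

section rel

variable {Γ : Type*} [Group Γ] {G : Subgroup Γ} {a b c d e f : K → Γ} {nA nB : Γ}

/-- a homomorphism-like map from a field of characteristic two has involutive values -/
theorem map_zero_of_add (g : K → Γ) (h : ∀ s t, g (s + t) = g s * g t) : g 0 = 1 := by
  have := h 0 0
  rw [add_zero] at this
  exact (mul_eq_left.1 this.symm)

theorem map_sq_of_add (h2 : (2 : K) = 0) (g : K → Γ) (h : ∀ s t, g (s + t) = g s * g t) (t : K) :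
    g t * g t = 1 := by
  rw [← h, ← two_mul, h2, zero_mul, map_zero_of_add g h]

theorem map_inv_of_add (h2 : (2 : K) = 0) (g : K → Γ) (h : ∀ s t, g (s + t) = g s * g t) (t : K) :
    (g t)⁻¹ = g t := by
  rw [inv_eq_iff_mul_eq_one]
  exact map_sq_of_add h2 g h t

theorem map_comm_of_add (g : K → Γ) (h : ∀ s t, g (s + t) = g s * g t) (s t : K) :
    g s * g t = g t * g s := by
  rw [← h, ← h, add_comm]

theorem char_two_add_self (h2 : (2 : K) = 0) (x : K) : x + x = 0 := by
  rw [← two_mul, h2, zero_mul]

/-- if `x * y * x = y * z` with `x` an involution then `y * x * y = x * (y * z * y)`-type swaps: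
`x y x = y z`, `x² = 1`, `y² = 1` give `y x y = x z'` with `z' = y z y`... we only record the form
used below -/
theorem swap_conj {x y z : Γ} (hx : x * x = 1) (hy : y * y = 1) (h : x * y * x = y * z) :
    y * x * y = x * (y * z * y) := by
  have h1 : y * x = x * (y * z) := by
    calc y * x = x * (x * y * x) := by rw [mul_assoc x y x, ← mul_assoc x x, hx, one_mul]
      _ = x * (y * z) := by rw [h]
  calc y * x * y = x * (y * z) * y := by rw [h1]
    _ = x * (y * z * y) := by simp only [mul_assoc]

variable (R : Rel G q a b c d e f nA nB) (Fk : FieldOK K q)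

include R in
theorem a_zero : a 0 = 1 := map_zero_of_add a R.add_a
include R in
theorem b_zero : b 0 = 1 := map_zero_of_add b R.add_b
include R in
theorem c_zero : c 0 = 1 := map_zero_of_add c R.add_c
include R in
theorem d_zero : d 0 = 1 := map_zero_of_add d R.add_d
include R in
theorem e_zero : e 0 = 1 := map_zero_of_add e R.add_e
include R in
theorem f_zero : f 0 = 1 := map_zero_of_add f R.add_f

include R Fk in
theorem a_sq (t : K) : a t * a t = 1 := map_sq_of_add Fk.two a R.add_a t
include R Fk in
theorem b_sq (t : K) : b t * b t = 1 := map_sq_of_add Fk.two b R.add_b t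
include R Fk in
theorem c_sq (t : K) : c t * c t = 1 := map_sq_of_add Fk.two c R.add_c t
include R Fk in
theorem d_sq (t : K) : d t * d t = 1 := map_sq_of_add Fk.two d R.add_d t
include R Fk in
theorem e_sq (t : K) : e t * e t = 1 := map_sq_of_add Fk.two e R.add_e t
include R Fk in
theorem f_sq (t : K) : f t * f t = 1 := map_sq_of_add Fk.two f R.add_f t

include R Fk in
theorem a_inv (t : K) : (a t)⁻¹ = a t := map_inv_of_add Fk.two a R.add_a t
include R Fk in
theorem b_inv (t : K) : (b t)⁻¹ = b t := map_inv_of_add Fk.two b R.add_b t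
include R Fk in
theorem c_inv (t : K) : (c t)⁻¹ = c t := map_inv_of_add Fk.two c R.add_c t
include R Fk in
theorem d_inv (t : K) : (d t)⁻¹ = d t := map_inv_of_add Fk.two d R.add_d t
include R Fk in
theorem e_inv (t : K) : (e t)⁻¹ = e t := map_inv_of_add Fk.two e R.add_e t
include R Fk in
theorem f_inv (t : K) : (f t)⁻¹ = f t := map_inv_of_add Fk.two f R.add_f t

/-- the element `d s * e u * f w` of the abelian normal subgroup `V` -/
def vv (d e f : K → Γ) (s u w : K) : Γ := d s * e u * f w

include R in
theorem vv_mul (s u w s' u' w' : K) :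
    vv d e f s u w * vv d e f s' u' w' = vv d e f (s + s') (u + u') (w + w') := by
  unfold vv
  rw [R.add_d, R.add_e, R.add_f]
  -- d s e u f w d s' e u' f w' = d s d s' e u e u' f w f w'
  calc d s * e u * f w * (d s' * e u' * f w')
      = d s * e u * (f w * d s') * e u' * f w' := by simp only [mul_assoc]
    _ = d s * e u * (d s' * f w) * e u' * f w' := by rw [R.comm_df]
    _ = d s * (e u * d s') * (f w * e u') * f w' := by simp only [mul_assoc]
    _ = d s * (d s' * e u) * (e u' * f w) * f w' := by rw [R.comm_de, R.comm_ef]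
    _ = d s * d s' * (e u * e u') * (f w * f w') := by simp only [mul_assoc]

include R Fk in
theorem vv_sq (s u w : K) : vv d e f s u w * vv d e f s u w = 1 := by
  rw [vv_mul R, char_two_add_self Fk.two, char_two_add_self Fk.two, char_two_add_self Fk.two]
  unfold vv
  rw [d_zero R, e_zero R, f_zero R, one_mul, one_mul]

include R in
theorem vv_zero : vv d e f 0 0 0 = 1 := by
  unfold vv
  rw [d_zero R, e_zero R, f_zero R, one_mul, one_mul]

include R in
theorem vv_comm (s u w s' u' w' : K) :
    vv d e f s u w * vv d e f s' u' w' = vv d e f s' u' w' * vv d e f s u w := by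
  rw [vv_mul R, vv_mul R, add_comm s, add_comm u, add_comm w]

include R Fk in
/-- conjugation of `V` by `a x` -/
theorem a_conj_vv (x s u w : K) :
    a x * vv d e f s u w * a x = vv d e f s (u + T1 q x s) w := by
  unfold vv
  have h1 := R.rel_ad x s
  have hx := a_sq R Fk x
  calc a x * (d s * e u * f w) * a x
      = (a x * d s * a x) * (a x * e u) * f w * a x := by
        simp only [mul_assoc]; rw [← mul_assoc (a x) (a x), hx, one_mul]
    _ = (d s * e (T1 q x s)) * (e u * a x) * f w * a x := by rw [h1, R.comm_ae]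
    _ = d s * e (T1 q x s) * e u * (a x * f w) * a x := by simp only [mul_assoc]
    _ = d s * e (T1 q x s) * e u * (f w * a x) * a x := by rw [R.comm_af]
    _ = d s * (e (T1 q x s) * e u) * f w * (a x * a x) := by simp only [mul_assoc]
    _ = d s * e (u + T1 q x s) * f w := by rw [hx, mul_one, ← R.add_e, add_comm]

include R Fk in
/-- conjugation of `V` by `b x` -/
theorem b_conj_vv (x s u w : K) :
    b x * vv d e f s u w * b x = vv d e f s u (w + x * u) := by
  unfold vv
  have h1 := R.rel_be x u
  have hx := b_sq R Fk x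
  calc b x * (d s * e u * f w) * b x
      = (b x * d s) * (e u * (f w * b x)) := by simp only [mul_assoc]
    _ = (d s * b x) * (e u * (b x * f w)) := by rw [R.comm_bd, R.comm_bf]
    _ = d s * (b x * e u * b x) * f w := by simp only [mul_assoc]
    _ = d s * (e u * f (x * u)) * f w := by rw [h1]
    _ = d s * e u * (f (x * u) * f w) := by simp only [mul_assoc]
    _ = d s * e u * f (w + x * u) := by rw [← R.add_f, add_comm]

include R Fk in
/-- conjugation of `V` by `c y` -/
theorem c_conj_vv (y s u w : K) :
    c y * vv d e f s u w * c y = vv d e f s u (w + T2 q y s) := by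
  unfold vv
  have h1 := R.rel_cd y s
  have hy := c_sq R Fk y
  calc c y * (d s * e u * f w) * c y
      = c y * d s * (e u * (f w * c y)) := by simp only [mul_assoc]
    _ = c y * d s * (e u * (c y * f w)) := by rw [R.comm_cf]
    _ = c y * d s * ((e u * c y) * f w) := by simp only [mul_assoc]
    _ = c y * d s * ((c y * e u) * f w) := by rw [R.comm_ce]
    _ = (c y * d s * c y) * e u * f w := by simp only [mul_assoc]
    _ = d s * f (T2 q y s) * e u * f w := by rw [h1]
    _ = d s * (f (T2 q y s) * e u) * f w := by simp only [mul_assoc]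
    _ = d s * (e u * f (T2 q y s)) * f w := by rw [R.comm_ef]
    _ = d s * e u * (f (T2 q y s) * f w) := by simp only [mul_assoc]
    _ = d s * e u * f (w + T2 q y s) := by rw [← R.add_f, add_comm]

include R Fk in
/-- `d y` acts on `a x` -/
theorem d_conj_a (y x : K) : d y * a x * d y = a x * e (T1 q x y) := by
  have h := swap_conj (a_sq R Fk x) (d_sq R Fk y) (R.rel_ad x y)
  rw [h]
  congr 1
  calc d y * e (T1 q x y) * d y = e (T1 q x y) * (d y * d y) := by
        rw [R.comm_de, mul_assoc]
    _ = e (T1 q x y) := by rw [d_sq R Fk, mul_one]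

include R Fk in
/-- `d y` acts on `c s` -/
theorem d_conj_c (y s : K) : d y * c s * d y = c s * f (T2 q s y) := by
  have h := swap_conj (c_sq R Fk s) (d_sq R Fk y) (R.rel_cd s y)
  rw [h]
  congr 1
  calc d y * f (T2 q s y) * d y = f (T2 q s y) * (d y * d y) := by
        rw [R.comm_df, mul_assoc]
    _ = f (T2 q s y) := by rw [d_sq R Fk, mul_one]

include R Fk in
/-- `e y` acts on `b x` -/
theorem e_conj_b (y x : K) : e y * b x * e y = b x * f (x * y) := by
  have h := swap_conj (b_sq R Fk x) (e_sq R Fk y) (R.rel_be x y)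
  rw [h]
  congr 1
  calc e y * f (x * y) * e y = f (x * y) * (e y * e y) := by
        rw [R.comm_ef, mul_assoc]
    _ = f (x * y) := by rw [e_sq R Fk, mul_one]

include R in
/-- `a x` acts on `c s`, in terms of `vv` -/
theorem a_conj_c (x s : K) : ∃ w, IsQ q w ∧
    a x * c s * a x = c s * vv d e f (T4 q x s) (T3 q x s) w := by
  obtain ⟨w, hw, h⟩ := R.rel_ac x s
  refine ⟨w, hw, ?_⟩
  rw [h]
  unfold vv
  simp only [mul_assoc]

include R Fk in
/-- `c y` acts on `a x` -/
theorem c_conj_a (y x : K) : ∃ w, IsQ q w ∧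
    c y * a x * c y = a x * vv d e f (T4 q x y) (T3 q x y) w := by
  obtain ⟨w, hw, h⟩ := a_conj_c R x y
  have h' := swap_conj (a_sq R Fk x) (c_sq R Fk y) h
  refine ⟨w + T2 q y (T4 q x y), ?_, ?_⟩
  · exact Fk.isQ_add _ _ hw (Fk.isQ_T2 _ _)
  · rw [h', c_conj_vv R Fk]

end rel

end Cfsg.Agent.Lib.Helper1.D4Inv
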